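import Mathlib

/-!
`2 × 2` matrices: commutants of non-scalar matrices and conjugacy in `SL₂` by the trace.
-/

namespace Cfsg.Agent.Lib.ElusiveTwo

open Matrix

variable {F : Type*} [Field F]

theorem mul_self_eq (M : Matrix (Fin 2) (Fin 2) F) :
    M * M = M.trace • M - M.det • (1 : Matrix (Fin 2) (Fin 2) F) := by
  ext i j
  fin_cases i <;> fin_cases j <;>
    simp [Matrix.mul_apply, Fin.sum_univ_two, Matrix.trace_fin_two, Matrix.det_fin_two] <;> ring

theorem exists_cyclic_vec {M : Matrix (Fin 2) (Fin 2) F} (hM : ∀ c : F, M ≠ c • 1) :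
    ∃ v : Fin 2 → F, (Matrix.of ![v, M *ᵥ v])ᵀ.det ≠ 0 := by
  by_contra h
  push Not at h
  have h1 := h ![1, 0]
  have h2 := h ![0, 1]
  have h3 := h ![1, 1]
  simp [Matrix.det_fin_two, Matrix.mulVec, dotProduct, Fin.sum_univ_two] at h1 h2 h3
  apply hM (M 0 0)
  ext i j
  fin_cases i <;> fin_cases j <;> simp [h1, h2] <;> linear_combination h3 + h2 - h1

/-- The matrix with columns `v` and `M v` conjugates `M` to its companion matrix. -/
theorem mul_cols (M : Matrix (Fin 2) (Fin 2) F) (v : Fin 2 → F) :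
    M * (Matrix.of ![v, M *ᵥ v])ᵀ = (Matrix.of ![v, M *ᵥ v])ᵀ * !![0, -M.det; 1, M.trace] := by
  ext i j
  fin_cases i <;> fin_cases j <;>
    simp [Matrix.mul_apply, Matrix.mulVec, dotProduct, Fin.sum_univ_two, Matrix.trace_fin_two,
      Matrix.det_fin_two] <;> ring

/-- The commutant of a non-scalar `2 × 2` matrix `M` is `F[M]`. -/
theorem eq_add_smul_of_commute {M A : Matrix (Fin 2) (Fin 2) F} (hM : ∀ c : F, M ≠ c • 1)
    (h : A * M = M * A) : ∃ a b : F, A = a • 1 + b • M := by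
  obtain ⟨v, hv⟩ := exists_cyclic_vec hM
  set P := (Matrix.of ![v, M *ᵥ v])ᵀ with hP
  have hu : IsUnit P.det := isUnit_iff_ne_zero.mpr hv
  let c := P⁻¹ *ᵥ (A *ᵥ v)
  refine ⟨c 0, c 1, ?_⟩
  have hc : A *ᵥ v = c 0 • v + c 1 • (M *ᵥ v) := by
    have h1 : P *ᵥ c = A *ᵥ v := by
      show P *ᵥ (P⁻¹ *ᵥ (A *ᵥ v)) = _
      rw [Matrix.mulVec_mulVec, Matrix.mul_nonsing_inv _ hu, Matrix.one_mulVec]
    rw [← h1]
    ext i
    fin_cases i <;> simp [hP, Matrix.mulVec, dotProduct, Fin.sum_univ_two] <;> ring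
  have hMv : A *ᵥ (M *ᵥ v) = (c 0 • 1 + c 1 • M) *ᵥ (M *ᵥ v) := by
    rw [Matrix.mulVec_mulVec, h, ← Matrix.mulVec_mulVec, hc, Matrix.mulVec_add, Matrix.mulVec_smul,
      Matrix.mulVec_smul, Matrix.add_mulVec, Matrix.smul_mulVec, Matrix.smul_mulVec,
      Matrix.one_mulVec]
  have hkey : A * P = (c 0 • 1 + c 1 • M) * P := by
    ext i j
    fin_cases j
    · have := congrFun (hc.trans (by rw [Matrix.add_mulVec, Matrix.smul_mulVec, Matrix.smul_mulVec,
        Matrix.one_mulVec]) : A *ᵥ v = (c 0 • 1 + c 1 • M) *ᵥ v) i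
      simpa [hP, Matrix.mul_apply, Matrix.mulVec, dotProduct] using this
    · have := congrFun hMv i
      simpa [hP, Matrix.mul_apply, Matrix.mulVec, dotProduct] using this
  have := congrArg (· * P⁻¹) hkey
  simpa [Matrix.mul_assoc, Matrix.mul_nonsing_inv _ hu] using this

theorem det_add_smul (M : Matrix (Fin 2) (Fin 2) F) (a b : F) :
    (a • 1 + b • M).det = a ^ 2 + M.trace * a * b + M.det * b ^ 2 := by
  simp [Matrix.det_fin_two, Matrix.trace_fin_two]
  ring

/-- Non-scalar matrices of determinant one and equal trace `t`, `t² ≠ 4`, are conjugate under `SL₂`. -/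
theorem exists_conj_of_trace [Fintype F] (h2 : (2 : F) ≠ 0) {X Y : Matrix (Fin 2) (Fin 2) F}
    (hX : X.det = 1) (hY : Y.det = 1) (hXn : ∀ c : F, X ≠ c • 1) (hYn : ∀ c : F, Y ≠ c • 1)
    (ht : X.trace = Y.trace) (h4 : Y.trace ^ 2 ≠ 4) :
    ∃ G : Matrix (Fin 2) (Fin 2) F, G.det = 1 ∧ X * G = G * Y := by
  obtain ⟨v, hv⟩ := exists_cyclic_vec hXn
  obtain ⟨w, hw⟩ := exists_cyclic_vec hYn
  set P := (Matrix.of ![v, X *ᵥ v])ᵀ with hP
  set Q := (Matrix.of ![w, Y *ᵥ w])ᵀ with hQ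
  have huQ : IsUnit Q.det := isUnit_iff_ne_zero.mpr hw
  have huP : IsUnit P.det := isUnit_iff_ne_zero.mpr hv
  have hXP : X * P = P * !![0, -Y.det; 1, Y.trace] := by
    have := mul_cols X v
    rw [hX, ht] at this
    rw [hY]; exact this
  have hYQ : Y * Q = Q * !![0, -Y.det; 1, Y.trace] := mul_cols Y w
  set G₀ := P * Q⁻¹ with hG₀
  have hG : X * G₀ = G₀ * Y := by
    calc X * G₀ = P * !![0, -Y.det; 1, Y.trace] * Q⁻¹ := by rw [hG₀, ← Matrix.mul_assoc, hXP]
      _ = P * (Q⁻¹ * (Q * !![0, -Y.det; 1, Y.trace])) * Q⁻¹ := by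
        rw [← Matrix.mul_assoc Q⁻¹, Matrix.nonsing_inv_mul _ huQ, Matrix.one_mul]
      _ = P * (Q⁻¹ * Y) := by
        rw [← hYQ, ← Matrix.mul_assoc Q⁻¹, ← Matrix.mul_assoc P, Matrix.mul_assoc _ Q,
          Matrix.mul_nonsing_inv _ huQ, Matrix.mul_one]
      _ = G₀ * Y := by rw [hG₀, Matrix.mul_assoc]
  set d := G₀.det with hd
  have hd0 : d ≠ 0 := by
    rw [hd, hG₀, Matrix.det_mul]
    exact mul_ne_zero hv (Matrix.isUnit_nonsing_inv_det Q huQ).ne_zero
  -- the norm form `a² + t a b + b²` represents `d⁻¹`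
  set t := Y.trace with htY
  have hk : (1 - t ^ 2 / 4 : F) ≠ 0 := by
    intro h
    have h22 : (4 : F) = 2 * 2 := by norm_num
    have h40 : (4 : F) ≠ 0 := h22 ▸ mul_ne_zero h2 h2
    apply h4
    field_simp at h
    linear_combination -h
  obtain ⟨a, b, hab⟩ := FiniteField.exists_root_sum_quadratic
    (R := F) (f := Polynomial.X ^ 2) (g := Polynomial.C (1 - t ^ 2 / 4) * Polynomial.X ^ 2 - Polynomial.C d⁻¹)
    (Polynomial.degree_X_pow 2) (by
      rw [Polynomial.degree_sub_C (by rw [Polynomial.degree_C_mul_X_pow 2 hk]; norm_num),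
        Polynomial.degree_C_mul_X_pow 2 hk]; rfl)
    (by
      have hodd : Fintype.card F % 2 = 1 := by
        apply FiniteField.odd_card_of_char_ne_two
        intro hc
        haveI : CharP F 2 := hc ▸ ringChar.charP F
        exact h2 (CharTwo.two_eq_zero)
      exact hodd)
  simp only [Polynomial.eval_pow, Polynomial.eval_X, Polynomial.eval_sub, Polynomial.eval_mul,
    Polynomial.eval_C] at hab
  refine ⟨G₀ * ((a - t * b / 2) • 1 + b • Y), ?_, ?_⟩
  · rw [Matrix.det_mul, det_add_smul, ← hd, hY]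
    have : (a - t * b / 2) ^ 2 + t * (a - t * b / 2) * b + 1 * b ^ 2 = d⁻¹ := by
      have h40 : (4 : F) ≠ 0 := (show (4 : F) = 2 * 2 by norm_num) ▸ mul_ne_zero h2 h2
      have e : (a - t * b / 2) ^ 2 + t * (a - t * b / 2) * b + 1 * b ^ 2 =
          a ^ 2 + (1 - t ^ 2 / 4) * b ^ 2 := by
        field_simp
        ring
      rw [e]
      linear_combination hab
    rw [this, mul_inv_cancel₀ hd0]
  · rw [← Matrix.mul_assoc, hG]
    simp [Matrix.mul_add, Matrix.add_mul, Matrix.mul_assoc]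

end Cfsg.Agent.Lib.ElusiveTwo
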